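import Mathlib.RingTheory.Smooth.StandardSmoothOfFree
import Mathlib.RingTheory.Smooth.StandardSmoothCotangent
import Mathlib.RingTheory.TensorProduct.Maps
import Mathlib.RingTheory.Etale.Basic

/-!
# Étale algebras lift along localizations of quotients

* `exists_etale_lift`: if every element of `T` is a fraction `φ a / φ s` of elements of `A`
  (e.g. a fibre ring `A ⊗_R κ(𝔭)`), every étale `T`-algebra is `T ⊗_A L` for some étale `A`-algebra `L`.
-/

universe u

open TensorProduct MvPolynomial

namespace Groth.Agent.Lib.FibreEtale.Lift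

variable {A T : Type u} [CommRing A] [CommRing T] [Algebra A T]

theorem exists_scale (hfrac : ∀ t : T, ∃ a s : A, IsUnit (algebraMap A T s) ∧
    algebraMap A T s * t = algebraMap A T a) {ι : Type*} (p : MvPolynomial ι T) :
    ∃ (s : A) (z : MvPolynomial ι A), IsUnit (algebraMap A T s) ∧
      MvPolynomial.map (algebraMap A T) z = MvPolynomial.C (algebraMap A T s) * p := by
  induction p using MvPolynomial.induction_on' with
  | monomial m t =>
    obtain ⟨a, s, hs, h⟩ := hfrac t
    exact ⟨s, monomial m a, hs, by rw [MvPolynomial.map_monomial, C_mul_monomial, h]⟩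
  | add p q hp hq =>
    obtain ⟨s₁, z₁, h₁, e₁⟩ := hp
    obtain ⟨s₂, z₂, h₂, e₂⟩ := hq
    refine ⟨s₁ * s₂, MvPolynomial.C s₂ * z₁ + MvPolynomial.C s₁ * z₂, by rw [map_mul]; exact h₁.mul h₂, ?_⟩
    rw [map_add, map_mul, map_mul, MvPolynomial.map_C, MvPolynomial.map_C, e₁, e₂, map_mul, map_mul]
    ring

/-- Étale algebras lift along a localization of a quotient. -/
theorem exists_etale_lift (hfrac : ∀ t : T, ∃ a s : A, IsUnit (algebraMap A T s) ∧
    algebraMap A T s * t = algebraMap A T a) (C : Type u) [CommRing C] [Algebra T C]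
    [Algebra.Etale T C] :
    ∃ (L : Type u) (_ : CommRing L) (_ : Algebra A L),
      Algebra.Etale A L ∧ Nonempty ((T ⊗[A] L) ≃ₐ[T] C) := by
  classical
  letI : Algebra A C := Algebra.compHom C (algebraMap A T)
  haveI : IsScalarTower A T C := IsScalarTower.of_algebraMap_eq fun _ => rfl
  have : Algebra.IsStandardSmoothOfRelativeDimension 0 T C :=
    Algebra.Etale.iff_isStandardSmoothOfRelativeDimension_zero.mp ‹_›
  obtain ⟨ι, σ, _, _, P, hdim⟩ := this.out
  have : Fintype ι := Fintype.ofFinite ι
  have : Fintype σ := Fintype.ofFinite σ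
  let μ : MvPolynomial ι A →+* MvPolynomial ι T := MvPolynomial.map (algebraMap A T)
  choose s r hs hr using fun j => exists_scale hfrac (P.relation j)
  let K : Ideal (MvPolynomial ι A) := Ideal.span (Set.range r)
  let S := MvPolynomial ι A ⧸ K
  let P₀ : Algebra.PreSubmersivePresentation A S ι σ :=
    Algebra.PreSubmersivePresentation.naive P.map P.map_inj
  let Δ : S := P₀.jacobian
  let L := Localization.Away Δ
  have hΔ : IsUnit (algebraMap S L Δ) := IsLocalization.Away.algebraMap_isUnit _
  have hL : Algebra.Etale A L := by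
    let Q : Algebra.SubmersivePresentation A L _ _ :=
      { toPreSubmersivePresentation := .comp (.localizationAway L Δ) P₀
        jacobian_isUnit := by simpa [Algebra.smul_def, -isUnit_map_iff, Δ] using hΔ }
    have : Algebra.IsStandardSmoothOfRelativeDimension 0 A L :=
      Q.isStandardSmoothOfRelativeDimension (by
        have h1 := P.card_relations_le_card_vars_of_isFinite
        simp only [Algebra.Presentation.dimension, Nat.card_eq_fintype_card, Fintype.card_sum,
          Fintype.card_unit] at h1 hdim ⊢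
        omega)
    infer_instance
  let ev : MvPolynomial ι A →ₐ[A] C := MvPolynomial.aeval P.val
  have hev : ∀ z, ev z = algebraMap P.Ring C (μ z) := by
    intro z
    rw [Algebra.Generators.algebraMap_apply]
    exact (MvPolynomial.aeval_map_algebraMap _ _ _).symm
  have hker : ∀ z ∈ K, ev z = 0 := by
    intro z hz
    have : K ≤ RingHom.ker ev.toRingHom := by
      rw [Ideal.span_le]
      rintro _ ⟨j, rfl⟩
      show ev (r j) = 0
      rw [hev, hr, map_mul]
      have : algebraMap P.Ring C (P.relation j) = 0 := P.relation_mem_ker j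
      rw [this, mul_zero]
    exact this hz
  let σ₀ : S →ₐ[A] C := Ideal.Quotient.liftₐ K ev hker
  have hval : ∀ x : MvPolynomial ι A, algebraMap P₀.Ring S x = Ideal.Quotient.mk K x := fun x => by
    rw [Algebra.Generators.algebraMap_apply]
    have h : MvPolynomial.aeval P₀.val = Ideal.Quotient.mkₐ A K :=
      MvPolynomial.algHom_ext fun j => by simp [P₀, K]; rfl
    exact AlgHom.congr_fun h x
  have hσΔ : IsUnit (σ₀ Δ) := by
    have hΔ' : Δ = Ideal.Quotient.mk K P₀.jacobiMatrix.det :=
      (Algebra.PreSubmersivePresentation.jacobian_eq_jacobiMatrix_det P₀).trans (hval _)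
    rw [hΔ']
    show IsUnit (ev P₀.jacobiMatrix.det)
    rw [hev]
    have hμ : μ P₀.jacobiMatrix.det =
        (∏ j, MvPolynomial.C (algebraMap A T (s j))) * P.jacobiMatrix.det := by
      rw [RingHom.map_det, ← Matrix.det_mul_row (fun j => (MvPolynomial.C (algebraMap A T (s j)) : MvPolynomial ι T))]
      congr 1
      ext i j : 1
      rw [RingHom.mapMatrix_apply, Matrix.map_apply,
        Algebra.PreSubmersivePresentation.jacobiMatrix_naive, Matrix.of_apply,
        Algebra.PreSubmersivePresentation.jacobiMatrix_apply]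
      show MvPolynomial.map _ (MvPolynomial.pderiv (P.map i) (r j)) = _
      rw [← MvPolynomial.pderiv_map, hr, MvPolynomial.pderiv_C_mul]
    rw [hμ, map_mul, map_prod]
    refine IsUnit.mul (IsUnit.prod_univ_iff.2 fun j => ?_) ?_
    · exact ((hs j).map (MvPolynomial.C : T →+* MvPolynomial ι T)).map (algebraMap P.Ring C)
    · rw [← Algebra.PreSubmersivePresentation.jacobian_eq_jacobiMatrix_det]
      exact P.jacobian_isUnit
  let ψ : L →ₐ[A] C := IsLocalization.Away.liftAlgHom Δ (f := σ₀) hσΔ
  have hψ : ∀ z, ψ (algebraMap S L z) = σ₀ z := fun z => IsLocalization.lift_eq _ z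
  let Φ : T ⊗[A] L →ₐ[T] C :=
    Algebra.TensorProduct.lift (Algebra.ofId T C) ψ fun _ _ => Commute.all _ _
  -- the inverse
  let gen : MvPolynomial ι A →ₐ[A] T ⊗[A] L :=
    (Algebra.TensorProduct.includeRight.comp (IsScalarTower.toAlgHom A S L)).comp (Ideal.Quotient.mkₐ A K)
  let θ : P.Ring →ₐ[T] T ⊗[A] L := MvPolynomial.aeval fun i => gen (X i)
  have hθμ : ∀ z, θ (μ z) = gen z := by
    intro z
    have h2 : MvPolynomial.aeval (fun i => gen (X i)) = gen := MvPolynomial.algHom_ext fun i => by simp
    refine Eq.trans ?_ (AlgHom.congr_fun h2 z)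
    exact MvPolynomial.aeval_map_algebraMap _ _ _
  have hθ : ∀ x : P.Ring, algebraMap P.Ring C x = 0 → θ x = 0 := by
    intro x hx
    have hx' : x ∈ P.ker := hx
    rw [← P.span_range_relation_eq_ker] at hx'
    refine Submodule.span_induction ?_ (map_zero θ) (fun a b _ _ ha hb => by rw [map_add, ha, hb, add_zero])
      (fun a b _ hb => by rw [smul_eq_mul, map_mul, hb, mul_zero]) hx'
    rintro _ ⟨j, rfl⟩
    have h0 : θ (μ (r j)) = 0 := by
      rw [hθμ]
      show Algebra.TensorProduct.includeRight (algebraMap S L (Ideal.Quotient.mk K (r j))) = 0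
      have hj : r j ∈ K := Ideal.subset_span (Set.mem_range_self j)
      rw [Ideal.Quotient.eq_zero_iff_mem.2 hj, map_zero, map_zero]
    rw [hr, map_mul] at h0
    exact (IsUnit.mul_right_eq_zero (((hs j).map (MvPolynomial.C : T →+* MvPolynomial ι T)).map θ)).1 h0
  let π : P.Ring →ₐ[T] C := MvPolynomial.aeval P.val
  have hπ : ∀ x, π x = algebraMap P.Ring C x := fun x => (P.algebraMap_apply x).symm
  have hπs : Function.Surjective π := fun c => by
    obtain ⟨x, hx⟩ := P.algebraMap_surjective c
    exact ⟨x, (hπ x).trans hx⟩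
  have hθ' : ∀ x ∈ RingHom.ker π, θ x = 0 := fun x hx => hθ x ((hπ x).symm.trans hx)
  let Ψ : C →ₐ[T] T ⊗[A] L :=
    (Ideal.Quotient.liftₐ (RingHom.ker π) θ hθ').comp
      (Ideal.quotientKerAlgEquivOfSurjective hπs).symm.toAlgHom
  have hΨ : ∀ x, Ψ (π x) = θ x := by
    intro x
    have e : Ideal.quotientKerAlgEquivOfSurjective hπs (Ideal.Quotient.mk _ x) = π x := rfl
    show (Ideal.Quotient.liftₐ (RingHom.ker π) θ hθ') ((Ideal.quotientKerAlgEquivOfSurjective hπs).symm (π x)) = _
    rw [← e, AlgEquiv.symm_apply_apply]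
    rfl
  refine ⟨L, inferInstance, inferInstance, hL, ⟨AlgEquiv.ofAlgHom Φ Ψ ?_ ?_⟩⟩
  · refine AlgHom.ext fun c => ?_
    obtain ⟨x, rfl⟩ := hπs c
    show Φ (Ψ (π x)) = π x
    rw [hΨ]
    refine AlgHom.congr_fun (show Φ.comp θ = π from MvPolynomial.algHom_ext fun i => ?_) x
    show Φ (θ (X i)) = π (X i)
    rw [show θ (X i) = gen (X i) from MvPolynomial.aeval_X _ i,
      show π (X i) = P.val i from MvPolynomial.aeval_X _ i]
    show Φ (1 ⊗ₜ algebraMap S L (Ideal.Quotient.mk K (X i))) = _
    rw [Algebra.TensorProduct.lift_tmul, map_one, one_mul, hψ]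
    exact MvPolynomial.aeval_X _ i
  · refine Algebra.TensorProduct.ext (AlgHom.ext fun t => ?_) ?_
    · exact (AlgHom.commutes (Ψ.comp Φ) t).trans (AlgHom.commutes (AlgHom.id T _) t).symm
    · apply AlgHom.coe_ringHom_injective
      refine IsLocalization.ringHom_ext (Submonoid.powers Δ) (RingHom.ext fun z => ?_)
      obtain ⟨z, rfl⟩ := Ideal.Quotient.mk_surjective z
      show Ψ (Φ (1 ⊗ₜ algebraMap S L (Ideal.Quotient.mk K z))) = 1 ⊗ₜ algebraMap S L (Ideal.Quotient.mk K z)
      rw [Algebra.TensorProduct.lift_tmul, map_one, one_mul, hψ]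
      show Ψ (ev z) = gen z
      rw [hev, ← hπ, hΨ, hθμ]

end Groth.Agent.Lib.FibreEtale.Lift
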